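import Mathlib
import Cfsg.Agent.ThompsonWielandt.Index

/-!
# Consequences of the theorem of Thompson and Wielandt
-/

set_option autoImplicit false

namespace CfsgLib.ThompsonWielandt

open MulAction

variable {G : Type*} [Group G]

theorem map_coreIn (X Y : Subgroup G) (e : G ≃* G) :
    (coreIn X Y).map e.toMonoidHom = coreIn (X.map e.toMonoidHom) (Y.map e.toMonoidHom) := by
  have h1 : ∀ (Z : Subgroup G) (z : G), e z ∈ Z.map e.toMonoidHom ↔ z ∈ Z := fun Z z =>
    Subgroup.mem_map_iff_mem (f := e.toMonoidHom) e.injective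
  ext y
  obtain ⟨y, rfl⟩ := e.surjective y
  rw [h1, mem_coreIn, mem_coreIn, h1]
  refine and_congr Iff.rfl ⟨fun h k hk => ?_, fun h k hk => ?_⟩
  · obtain ⟨k, rfl⟩ := e.surjective k
    rw [← map_mul, ← map_inv, ← map_mul, h1]
    exact h k ((h1 X k).mp hk)
  · have := h (e k) ((h1 X k).mpr hk)
    rwa [← map_mul, ← map_inv, ← map_mul, h1] at this

theorem biCore_map (X Y : Subgroup G) (e : G ≃* G) :
    (biCore X Y).map e.toMonoidHom = biCore (X.map e.toMonoidHom) (Y.map e.toMonoidHom) := by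
  rw [biCore, map_coreIn, map_coreIn, Subgroup.map_inf _ _ _ e.injective]
  rfl

theorem map_conj_inv_map (X : Subgroup G) (g : G) :
    (X.map (MulAut.conj g⁻¹).toMonoidHom).map (MulAut.conj g).toMonoidHom = X := by
  rw [Subgroup.map_map]
  convert Subgroup.map_id X
  ext; simp [mul_assoc]

/-- In a normal subgroup of a group with `F*(Y) = O_p(Y)` again `F* = O_p`. -/
theorem genFitting_eq_pCore_of_le [Finite G] {p : ℕ} [Fact p.Prime] {X Y : Subgroup G}
    (hXY : X ≤ Y) (hn : Y ≤ Subgroup.normalizer (X : Set G))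
    (h : Cfsg.generalizedFittingSubgroup Y = Cfsg.pCore p Y) :
    Cfsg.generalizedFittingSubgroup X = Cfsg.pCore p X := by
  haveI : (X.subgroupOf Y).Normal := (Subgroup.normal_subgroupOf_iff_le_normalizer hXY).mpr hn
  have key : ∀ (H : Subgroup Y), H.IsSubnormal →
      IsPGroup p (Cfsg.generalizedFittingSubgroup H) := by
    intro H hH
    have h1 := CfsgLib.Cores.map_generalizedFitting_subgroup_le hH
    rw [h] at h1
    have h2 : IsPGroup p ((Cfsg.generalizedFittingSubgroup H).map H.subtype) :=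
      CfsgLib.LocalP.isPGroup_pCore.to_le h1
    exact h2.of_equiv ((Cfsg.generalizedFittingSubgroup H).equivMapOfInjective
      H.subtype H.subtype_injective).symm
  have hp : IsPGroup p (Cfsg.generalizedFittingSubgroup X) := by
    have e := (Subgroup.subgroupOfEquivOfLe hXY)
    rw [← CfsgLib.Cores.map_generalizedFitting_equiv e]
    exact (key _ (inferInstance : (X.subgroupOf Y).Normal).isSubnormal).map _
  haveI := CfsgLib.LocalP.pCore_characteristic (G := X) p
  refine le_antisymm (CfsgLib.LocalP.le_pCore ?_ hp) ?_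
  · exact CfsgLib.Cores.generalizedFittingSubgroup_normal
  · exact (CfsgLib.Fitting.pGroup_le_fittingSubgroup inferInstance
      CfsgLib.LocalP.isPGroup_pCore).trans CfsgLib.Cores.fitting_le_generalizedFitting

theorem map_pCore_equiv [Finite G] {H : Type*} [Group H] [Finite H] {p : ℕ} [Fact p.Prime]
    (e : G ≃* H) : (Cfsg.pCore p G).map e.toMonoidHom = Cfsg.pCore p H := by
  haveI := CfsgLib.LocalP.pCore_characteristic (G := G) p
  haveI := CfsgLib.LocalP.pCore_characteristic (G := H) p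
  refine le_antisymm (CfsgLib.LocalP.le_pCore
    ((inferInstance : (Cfsg.pCore p G).Normal).map _ e.surjective)
    (CfsgLib.LocalP.isPGroup_pCore.map _)) ?_
  intro y hy
  refine ⟨e.symm y, ?_, e.apply_symm_apply y⟩
  exact CfsgLib.LocalP.le_pCore
    ((inferInstance : (Cfsg.pCore p H).Normal).map _ e.symm.surjective)
    (CfsgLib.LocalP.isPGroup_pCore.map _)
    (Subgroup.mem_map_of_mem e.symm.toMonoidHom hy)

theorem genFitting_eq_pCore_map [Finite G] {p : ℕ} [Fact p.Prime] {X : Subgroup G} (e : G ≃* G)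
    (h : Cfsg.generalizedFittingSubgroup X = Cfsg.pCore p X) :
    Cfsg.generalizedFittingSubgroup (X.map e.toMonoidHom) = Cfsg.pCore p (X.map e.toMonoidHom) := by
  have e' : X ≃* X.map e.toMonoidHom := e.subgroupMap X
  rw [← CfsgLib.Cores.map_generalizedFitting_equiv e', h, map_pCore_equiv e']

/-- The second cores of two conjugate maximal subgroups. -/
theorem second_cores_p_group [Finite G] (M₁ M₂ : Subgroup G) (hmax : IsCoatom M₁) (g : G)
    (hconj : M₂ = M₁.map (MulAut.conj g).toMonoidHom) (hne : M₁ ≠ M₂) (hcore : M₁.normalCore = ⊥)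
    (A B : ℕ → Subgroup G) (hA0 : A 0 = M₁) (hB0 : B 0 = M₂)
    (hA : ∀ i, A (i + 1) = ((A i ⊓ B i).subgroupOf M₁).normalCore.map M₁.subtype)
    (hB : ∀ i, B (i + 1) = ((A i ⊓ B i).subgroupOf M₂).normalCore.map M₂.subtype)
    (hA2 : A 2 ≠ ⊥) (hB2 : B 2 ≠ ⊥) :
    ∃ p : ℕ, p.Prime ∧ IsPGroup p ↥(A 2 ⊔ B 2) ∧
      Cfsg.generalizedFittingSubgroup ↥M₁ = Cfsg.pCore p ↥M₁ ∧
      Cfsg.generalizedFittingSubgroup ↥(A 1) = Cfsg.pCore p ↥(A 1) ∧
      Cfsg.generalizedFittingSubgroup ↥M₂ = Cfsg.pCore p ↥M₂ ∧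
      Cfsg.generalizedFittingSubgroup ↥(B 1) = Cfsg.pCore p ↥(B 1) := by
  have hA1 : A 1 = coreIn M₁ (M₁ ⊓ M₂) := by rw [hA 0, hA0, hB0]; rfl
  have hB1 : B 1 = coreIn M₂ (M₁ ⊓ M₂) := by rw [hB 0, hA0, hB0]; rfl
  have main : ∀ X Y : Subgroup G,
      coreIn X (coreIn X (X ⊓ Y) ⊓ coreIn Y (X ⊓ Y)) = biCore X Y := by
    intro X Y
    refine le_antisymm (le_coreIn (coreIn_le_left _ _) ((coreIn_le_right _ _).trans inf_le_right)
      (le_normalizer_coreIn _ _)) (le_coreIn (coreIn_le_left _ _) (le_inf ?_ (coreIn_le_right _ _))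
      (le_normalizer_coreIn _ _))
    exact le_coreIn (coreIn_le_left _ _) ((coreIn_le_right _ _).trans (coreIn_le_right _ _))
      (le_normalizer_coreIn _ _)
  have hA2' : A 2 = biCore M₁ M₂ := by rw [← main, hA 1, hA1, hB1]; rfl
  have hB2' : B 2 = biCore M₂ M₁ := by
    rw [← main, inf_comm M₂ M₁, inf_comm (coreIn M₂ _), hB 1, hA1, hB1]; rfl
  have hcore' : ∀ N : Subgroup G, N.Normal → N ≤ M₁ → N = ⊥ := fun N hN hle => by
    haveI := hN
    exact le_bot_iff.mp (hcore ▸ Subgroup.normal_le_normalCore.mpr hle)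
  have hB2g : B 2 = (biCore M₁ (M₁.map (MulAut.conj g⁻¹).toMonoidHom)).map
      (MulAut.conj g).toMonoidHom := by
    rw [biCore_map, map_conj_inv_map, ← hconj, hB2']
  rw [hA2', hconj] at hA2
  rw [hB2g] at hB2
  rcases thompson_wielandt hmax hcore' (hconj ▸ hne.symm) with h | h | ⟨p, hp, h1, h2, h3⟩
  · exact absurd h hA2
  · exact absurd (by rw [h, Subgroup.map_bot]) hB2
  haveI := Fact.mk hp
  have hM2 : Cfsg.generalizedFittingSubgroup M₂ = Cfsg.pCore p M₂ := by
    subst hconj
    exact genFitting_eq_pCore_map _ h3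
  refine ⟨p, hp, ?_, h3, ?_, hM2, ?_⟩
  · rw [hA2']
    have hP : IsPGroup p (biCore M₁ M₂) := by rw [hconj]; exact h1
    have hQ : IsPGroup p (B 2) := by rw [hB2g]; exact h2.map _
    refine IsPGroup.to_sup_of_normal_left' hP hQ ?_
    rw [hB2']
    exact ((coreIn_le_right _ _).trans (coreIn_le_left _ _)).trans (le_normalizer_coreIn _ _)
  · rw [hA1]
    exact genFitting_eq_pCore_of_le (coreIn_le_left _ _) (le_normalizer_coreIn _ _) h3
  · rw [hB1]
    exact genFitting_eq_pCore_of_le (coreIn_le_left _ _) (le_normalizer_coreIn _ _) hM2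

theorem fittingSubgroup_eq_bot_of_opIn [Finite G] {X : Subgroup G}
    (h : ∀ p : ℕ, p.Prime → opIn p X = ⊥) : Cfsg.fittingSubgroup X = ⊥ := by
  rw [← Subgroup.card_eq_one]
  by_contra h1
  obtain ⟨q, hq, hqd⟩ := Nat.exists_prime_and_dvd h1
  haveI := Fact.mk hq
  haveI := CfsgLib.Fitting.fittingSubgroup_normal X
  haveI := CfsgLib.Fitting.fittingSubgroup_isNilpotent X
  obtain ⟨Q⟩ : Nonempty (Sylow q (Cfsg.fittingSubgroup X)) := inferInstance
  haveI hQn : (Q : Subgroup (Cfsg.fittingSubgroup X)).Normal :=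
    Sylow.normal_of_normalizerCondition Group.normalizerCondition_of_isNilpotent Q
  haveI : (Q : Subgroup (Cfsg.fittingSubgroup X)).Characteristic :=
    Q.characteristic_of_normal hQn
  have hle : (Q : Subgroup (Cfsg.fittingSubgroup X)).map (Cfsg.fittingSubgroup X).subtype ≤
      Cfsg.pCore q X := CfsgLib.LocalP.le_pCore inferInstance (Q.isPGroup'.map _)
  rw [(Subgroup.map_eq_bot_iff_of_injective _ X.subtype_injective).mp (h q hq), le_bot_iff,
    Subgroup.map_eq_bot_iff_of_injective _ (Cfsg.fittingSubgroup X).subtype_injective] at hle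
  exact Q.ne_bot_of_dvd_card hqd hle

/-- If `O_p(A ∩ gAg⁻¹)` lies in the core of the intersection in `A`, it is trivial. -/
theorem opIn_inter_eq_bot [Finite G] {A : Subgroup G} (hA : IsCoatom A)
    (hcore : ∀ N : Subgroup G, N.Normal → N ≤ A → N = ⊥) {g : G}
    (hne : A.map (MulAut.conj g).toMonoidHom ≠ A) (p : ℕ) [Fact p.Prime]
    (hle : opIn p (A ⊓ A.map (MulAut.conj g).toMonoidHom) ≤
      coreIn A (A ⊓ A.map (MulAut.conj g).toMonoidHom)) :
    opIn p (A ⊓ A.map (MulAut.conj g).toMonoidHom) = ⊥ := by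
  set B := A.map (MulAut.conj g).toMonoidHom with hB
  set C := A ⊓ B with hC
  set K := coreIn A C with hK
  set Q := opIn p C with hQ
  set V := opIn p B with hV
  have hKC : K ≤ C := coreIn_le_right A C
  have hAK : A ≤ Subgroup.normalizer (K : Set G) := le_normalizer_coreIn A C
  have hQA : Q ≤ A := (opIn_le p C).trans inf_le_left
  have hQB : Q ≤ B := (opIn_le p C).trans inf_le_right
  have hQeq : Q = opIn p K := by
    refine le_antisymm (le_opIn hle (hKC.trans (le_normalizer_opIn p C)) (isPGroup_opIn p C))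
      (le_opIn ((opIn_le p K).trans hKC) ?_ (isPGroup_opIn p K))
    exact (inf_le_left.trans hAK).trans (normalizer_le_normalizer_opIn p K)
  have hAQ : A ≤ Subgroup.normalizer (Q : Set G) := by
    rw [hQeq]; exact hAK.trans (normalizer_le_normalizer_opIn p K)
  have hVA : V ⊓ A ≤ Q := by
    refine le_opIn (le_inf inf_le_right (inf_le_left.trans (opIn_le p B))) ?_
      ((isPGroup_opIn p B).to_le inf_le_left)
    refine le_normalizer_of_conj_mem fun k hk x hx => ⟨?_, ?_⟩
    · exact (Subgroup.mem_normalizer_iff.mp (le_normalizer_opIn p B hk.2) x).mp hx.1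
    · exact A.mul_mem (A.mul_mem hk.1 hx.2) (A.inv_mem hk.1)
  by_contra hQ0
  have hNQ := normalizer_le_of_ne_bot hA hcore hQ0 hQA hAQ
  by_cases hVQ : V ≤ Q
  · have hcard : Nat.card Q ≤ Nat.card V := by
      have h1 : Q ≤ opIn p A := le_opIn hQA hAQ (isPGroup_opIn p C)
      have h2 : Nat.card V = Nat.card (opIn p A) := by
        rw [hV, hB, ← map_opIn, Subgroup.card_map_of_injective (MulAut.conj g).injective]
      rw [h2]
      exact Subgroup.card_le_of_le h1
    have heq := Subgroup.eq_of_le_of_card_ge hVQ hcard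
    refine hQ0 (eq_bot_of_normalized_conj hA hcore hne hQA hAQ ?_)
    rw [← hB, ← heq]
    exact le_normalizer_opIn p B
  · set T := V ⊔ Q with hT
    have hTp : IsPGroup p T := IsPGroup.to_sup_of_normal_left' (isPGroup_opIn p B)
      (isPGroup_opIn p C) (hQB.trans (le_normalizer_opIn p B))
    haveI := hTp.isNilpotent
    have hlt : Q.subgroupOf T < ⊤ := lt_top_iff_ne_top.mpr fun h =>
      hVQ (le_sup_left.trans (Subgroup.subgroupOf_eq_top.mp h))
    obtain ⟨t, ht, htQ⟩ := SetLike.exists_of_lt (Group.normalizerCondition_of_isNilpotent _ hlt)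
    have htN : (t : G) ∈ Subgroup.normalizer (Q : Set G) := by
      rw [Subgroup.mem_normalizer_iff]
      intro y
      by_cases hy : y ∈ T
      · exact Subgroup.mem_normalizer_iff.mp ht ⟨y, hy⟩
      · refine iff_of_false (fun h => hy (Subgroup.mem_sup_right h)) (fun h => hy ?_)
        have h2 : (t : G) * y * (t : G)⁻¹ ∈ T := Subgroup.mem_sup_right h
        simpa [mul_assoc] using T.mul_mem (T.mul_mem (T.inv_mem t.2) h2) t.2
    have htT : (t : G) ∈ V ⊔ Q := t.2
    rw [← SetLike.mem_coe, Subgroup.coe_mul_of_right_le_normalizer_left _ _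
      (hQB.trans (le_normalizer_opIn p B))] at htT
    obtain ⟨v, hv, q, hq, hvq⟩ := Set.mem_mul.mp htT
    have hvA : v ∈ A := by
      have := hNQ htN
      rw [← hvq] at this
      exact (Subgroup.mul_mem_cancel_right A (hQA hq)).mp this
    apply htQ
    show (t : G) ∈ Q
    rw [← hvq]
    exact Q.mul_mem (hVA ⟨hv, hvA⟩) hq

/-- A fitting-free two-point subconstituent. -/
theorem fitting_free_subconstituent {Ω : Type*} [Finite G] [MulAction G Ω] [FaithfulSMul G Ω]
    [Finite Ω] (hprim : IsPreprimitive G Ω) (a b : Ω) (d : ℕ)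
    (hd : Nat.card (orbit (stabilizer G a) b) = d) (h2 : 2 ≤ d)
    (hF : Cfsg.fittingSubgroup ↥(((stabilizer G b).subgroupOf (stabilizer G a)).map
      (toPermHom (stabilizer G a) (orbit (stabilizer G a) b))) = ⊥) :
    Cfsg.fittingSubgroup ↥(stabilizer G a ⊓ stabilizer G b) = ⊥ ∧
      Nat.card (stabilizer G a) ∣ Nat.factorial d * (Nat.factorial (d - 1)) ^ d := by
  haveI := hprim
  have hle : ∀ p : ℕ, p.Prime → opIn p (stabilizer G a ⊓ stabilizer G b) ≤
      coreIn (stabilizer G a) (stabilizer G a ⊓ stabilizer G b) := by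
    intro p hp
    haveI := Fact.mk hp
    set C := stabilizer G a ⊓ stabilizer G b with hC
    set f := toPermHom (stabilizer G a) (orbit (stabilizer G a) b) with hf
    let ψ : C →* ((stabilizer G b).subgroupOf (stabilizer G a)).map f :=
      (f.comp (Subgroup.inclusion inf_le_left)).codRestrict _ fun x =>
        ⟨Subgroup.inclusion inf_le_left x, x.2.2, rfl⟩
    have hψ : Function.Surjective ψ := by
      rintro ⟨_, x, hx, rfl⟩
      exact ⟨⟨x, x.2, hx⟩, rfl⟩
    haveI := CfsgLib.LocalP.pCore_characteristic (G := C) p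
    have h0 : (Cfsg.pCore p C).map ψ ≤ ⊥ := hF ▸ CfsgLib.Fitting.pGroup_le_fittingSubgroup
      ((inferInstance : (Cfsg.pCore p C).Normal).map ψ hψ) (CfsgLib.LocalP.isPGroup_pCore.map ψ)
    rintro _ ⟨x, hx, rfl⟩
    have hfx : f (Subgroup.inclusion inf_le_left x) = 1 :=
      congrArg Subtype.val (Subgroup.mem_bot.mp (h0 ⟨x, hx, rfl⟩))
    refine mem_coreIn.mpr ⟨x.2.1, fun k hk => ⟨?_, ?_⟩⟩
    · exact (stabilizer G a).mul_mem ((stabilizer G a).mul_mem hk x.2.1)
        ((stabilizer G a).inv_mem hk)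
    · have h1 := congrArg Subtype.val (Equiv.congr_fun hfx
        ⟨k⁻¹ • b, mem_orbit b (⟨k⁻¹, inv_mem hk⟩ : stabilizer G a)⟩)
      show (k * (x : G) * k⁻¹) • b = b
      rw [mul_smul, mul_smul]
      exact (congrArg (k • ·) h1).trans (smul_inv_smul k b)
  obtain ⟨hA, hcore, hne⟩ := primitive_setting hprim a b (hd ▸ h2)
  obtain ⟨g, rfl⟩ := exists_smul_eq G a b
  rw [stabilizer_smul_eq_stabilizer_map_conj] at hne hle ⊢
  have hop : ∀ p : ℕ, p.Prime → opIn p (stabilizer G a ⊓
      (stabilizer G a).map (MulAut.conj g).toMonoidHom) = ⊥ := fun p hp => by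
    haveI := Fact.mk hp
    exact opIn_inter_eq_bot hA hcore hne p (hle p hp)
  refine ⟨fittingSubgroup_eq_bot_of_opIn hop, card_stabilizer_dvd_of_biCore_eq_bot g a d hd ?_⟩
  rcases thompson_wielandt hA hcore hne with h | h | ⟨p, hp, h1, -, -⟩
  · exact Or.inl h
  · exact Or.inr h
  · haveI := Fact.mk hp
    refine Or.inl (le_bot_iff.mp (hop p hp ▸ le_opIn ?_ ?_ h1))
    · exact (coreIn_le_right _ _).trans ((coreIn_le_right _ _))
    · exact inf_le_left.trans (le_normalizer_coreIn _ _)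

end CfsgLib.ThompsonWielandt
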